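import Groth.Agent.SerreReg.Regular
import Groth.Agent.CIBertini.Local
import Mathlib.RingTheory.RegularLocalRing.Defs
import Mathlib.RingTheory.Derivation.Basic

/-! Hypersurfaces cut out by an element with invertible derivative. -/

set_option autoImplicit false
universe u

namespace Groth.Agent.DerivReg

open IsLocalRing

theorem isRegularRing_quotient {R : Type u} [CommRing R] [IsRegularRing R] (f : R) (D : Derivation ℤ R R)
    (hD : IsUnit (Ideal.Quotient.mk (Ideal.span {f}) (D f))) : IsRegularRing (R ⧸ Ideal.span ({f} : Set R)) := by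
  refine ⟨fun Q _ => ?_⟩
  obtain ⟨e⟩ := CIBertini.nonempty_localQuot (Ideal.span {f}) Q
  let P := Q.comap (Ideal.Quotient.mk (Ideal.span {f}))
  let S := Localization.AtPrime P
  have hDf : D f ∉ P := fun h => Ideal.IsPrime.ne_top ‹Q.IsPrime› (Ideal.eq_top_of_isUnit_mem _ h hD)
  have hfP : f ∈ P := by
    show Ideal.Quotient.mk _ f ∈ Q
    rw [Ideal.Quotient.eq_zero_iff_mem.mpr (Ideal.mem_span_singleton_self f)]
    exact Q.zero_mem
  have hm : algebraMap R S f ∈ maximalIdeal S := (IsLocalization.AtPrime.to_map_mem_maximal_iff S P f).mpr hfP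
  have hm2 : algebraMap R S f ∉ maximalIdeal S ^ 2 := by
    intro h
    rw [← Localization.AtPrime.map_eq_maximalIdeal, ← Ideal.map_pow,
      IsLocalization.algebraMap_mem_map_algebraMap_iff P.primeCompl] at h
    obtain ⟨s, hs, hsf⟩ := h
    have hD2 : ∀ x ∈ P ^ 2, D x ∈ P := fun x hx => by
      rw [pow_two] at hx
      refine Submodule.mul_induction_on hx (fun a ha b hb => ?_) (fun a b ha hb => ?_)
      · rw [Derivation.leibniz]
        exact add_mem (P.mul_mem_right _ ha) (P.mul_mem_right _ hb)
      · rw [map_add]; exact add_mem ha hb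
    have h2 := hD2 _ hsf
    rw [Derivation.leibniz, smul_eq_mul, smul_eq_mul] at h2
    have h3 : s * D f ∈ P := by
      have := sub_mem h2 (P.mul_mem_right (D s) hfP)
      rwa [add_sub_cancel_right] at this
    rcases Ideal.IsPrime.mem_or_mem inferInstance h3 with h' | h'
    exacts [hs h', hDf h']
  obtain ⟨hreg, -⟩ := SerreReg.isRegularLocalRing_quot hm hm2
  have hI : (Ideal.span {f}).map (algebraMap R S) = Ideal.span {algebraMap R S f} := by
    rw [Ideal.map_span, Set.image_singleton]
  exact IsRegularLocalRing.of_ringEquiv ((Ideal.quotEquivOfEq hI.symm).trans e.symm)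

end Groth.Agent.DerivReg
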